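import Mathlib.RingTheory.Polynomial.IsIntegral
import Mathlib.RingTheory.ZariskisMainTheorem
import Mathlib.RingTheory.Polynomial.ScaleRoots
import Mathlib.FieldTheory.Minpoly.IsIntegrallyClosed
import Mathlib.RingTheory.EssentialFiniteness
import Mathlib.RingTheory.KrullDimension.NonZeroDivisors
import Mathlib.RingTheory.Ideal.KrullsHeightTheorem
import Mathlib.RingTheory.AlgebraicIndependent.AlgebraicClosure
import Mathlib.RingTheory.AlgebraicIndependent.TranscendenceBasis
import Mathlib.RingTheory.Algebraic.Integral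
import Mathlib.RingTheory.LocalRing.ResidueField.Basic
import Mathlib.RingTheory.Spectrum.Prime.Jacobson
import Mathlib.RingTheory.Polynomial.UniqueFactorization

/-!
An element of a local essentially finite type extension of domains which is part of a system of
parameters of the closed fibre divides no nonzero element of the base, when the transcendence
degree is the expected one.
-/

open Polynomial

namespace Groth.L15.HorizNZD

section MinPoly

variable {P L : Type*} [CommRing P] [IsDomain P] [IsIntegrallyClosed P] [CommRing L] [IsDomain L]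
  [Algebra P L] [Module.IsTorsionFree P L]

/-- The minimal polynomial of `x * c`. -/
theorem minpoly_algebraMap_mul {x : P} (hx : x ≠ 0) {c : L} (hc : IsIntegral P c) :
    minpoly P (algebraMap P L x * c) = (minpoly P c).scaleRoots x := by
  set s := algebraMap P L x * c
  set ν := minpoly P c
  have hq : aeval s (ν.scaleRoots x) = 0 := scaleRoots_aeval_eq_zero (minpoly.aeval P c)
  have hqm : (ν.scaleRoots x).Monic := (monic_scaleRoots_iff x).mpr (minpoly.monic hc)
  have hs : IsIntegral P s := ⟨_, hqm, hq⟩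
  refine (eq_of_monic_of_dvd_of_natDegree_le (minpoly.monic hs) hqm
    (minpoly.isIntegrallyClosed_dvd hs hq) ?_).symm
  rw [natDegree_scaleRoots]
  set μ := minpoly P s
  have h1 : aeval c (μ.comp (C x * X)) = 0 := by
    rw [aeval_comp, map_mul, aeval_C, aeval_X]
    exact minpoly.aeval P s
  have hdeg : (μ.comp (C x * X)).natDegree = μ.natDegree := by
    rw [natDegree_comp, natDegree_C_mul_X x hx, mul_one]
  have hne : μ.comp (C x * X) ≠ 0 := by
    intro h
    rw [h, natDegree_zero] at hdeg
    exact (minpoly.natDegree_pos hs).ne hdeg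
  calc ν.natDegree ≤ (μ.comp (C x * X)).natDegree := natDegree_le_of_dvd
        (minpoly.isIntegrallyClosed_dvd hc h1) hne
    _ = μ.natDegree := hdeg

end MinPoly

section Core

variable {A K L σ : Type*} [CommRing A] [Field K] [Algebra A K] [Field L]
  [Algebra (MvPolynomial σ A) L] [Algebra (MvPolynomial σ K) L]
  [Module.IsTorsionFree (MvPolynomial σ K) L]

attribute [local instance] MvPolynomial.algebraMvPolynomial

variable [IsScalarTower (MvPolynomial σ A) (MvPolynomial σ K) L]

/-- If `s` and `s / X i` are integral, a power of `s` is `X i` times an integral element. -/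
theorem exists_pow_eq_mul (i : σ) {s c : L} (hs : IsIntegral (MvPolynomial σ A) s)
    (hc : IsIntegral (MvPolynomial σ K) c)
    (h : s = algebraMap (MvPolynomial σ K) L (MvPolynomial.X i) * c) :
    ∃ (n : ℕ) (u : L), IsIntegral (MvPolynomial σ A) u ∧
      s ^ n = algebraMap (MvPolynomial σ A) L (MvPolynomial.X i) * u := by
  set μ := minpoly (MvPolynomial σ K) s
  have hsK : IsIntegral (MvPolynomial σ K) s := hs.tower_top
  obtain ⟨f, hf, hfs⟩ := id hs
  have hdvd : μ ∣ f.map (algebraMap (MvPolynomial σ A) (MvPolynomial σ K)) := by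
    refine minpoly.isIntegrallyClosed_dvd hsK ?_
    rw [aeval_map_algebraMap]
    exact hfs
  have hμ : μ = (minpoly (MvPolynomial σ K) c).scaleRoots (MvPolynomial.X i) := by
    rw [← minpoly_algebraMap_mul (MvPolynomial.X_ne_zero i) hc, ← h]
  have hq : ∀ j < μ.natDegree, ∃ q : MvPolynomial σ K, μ.coeff j = MvPolynomial.X i * q ∧
      IsIntegral (MvPolynomial σ A) q := by
    intro j hj
    have hcoe := Polynomial.isIntegral_coeff_of_dvd f μ hf (minpoly.monic hsK) hdvd j
    rw [MvPolynomial.isIntegral_iff_isIntegral_coeff] at hcoe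
    have hdiv : MvPolynomial.X i ∣ μ.coeff j := by
      rw [hμ, coeff_scaleRoots]
      refine Dvd.dvd.mul_left (dvd_pow_self _ ?_) _
      rw [hμ, natDegree_scaleRoots] at hj
      omega
    obtain ⟨q, hq⟩ := hdiv
    refine ⟨q, hq, MvPolynomial.isIntegral_iff_isIntegral_coeff.mpr fun m => ?_⟩
    have := hcoe (Finsupp.single i 1 + m)
    rwa [hq, MvPolynomial.coeff_X_mul] at this
  choose! q hq hqi using hq
  refine ⟨μ.natDegree, -∑ j ∈ Finset.range μ.natDegree,
    algebraMap (MvPolynomial σ K) L (q j) * s ^ j, ?_, ?_⟩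
  · refine (IsIntegral.sum _ fun j hj => ?_).neg
    exact ((hqi j (Finset.mem_range.mp hj)).map
      (IsScalarTower.toAlgHom (MvPolynomial σ A) (MvPolynomial σ K) L)).mul (hs.pow _)
  · have h0 := minpoly.aeval (MvPolynomial σ K) s
    rw [aeval_eq_sum_range, Finset.sum_range_succ] at h0
    rw [(minpoly.monic hsK).coeff_natDegree, one_smul, add_eq_zero_iff_eq_neg'] at h0
    rw [h0, mul_neg, Finset.mul_sum]
    congr 1
    refine Finset.sum_congr rfl fun j hj => ?_
    rw [Algebra.smul_def, hq j (Finset.mem_range.mp hj), map_mul, ← mul_assoc,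
      IsScalarTower.algebraMap_apply (MvPolynomial σ A) (MvPolynomial σ K) L]
    rw [show algebraMap (MvPolynomial σ A) (MvPolynomial σ K) (MvPolynomial.X i) =
      MvPolynomial.X i from MvPolynomial.map_X _ _]

end Core

section Dim

/-- A system of parameters of a Noetherian local ring through a given element avoiding the
minimal primes. -/
theorem exists_sop {R : Type*} [CommRing R] [IsNoetherianRing R] [IsLocalRing R] {g : R}
    (hg : g ∈ IsLocalRing.maximalIdeal R) (hmin : ∀ q ∈ minimalPrimes R, g ∉ q) {d : ℕ}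
    (hd : ringKrullDim R = d) :
    ∃ (m : ℕ) (y : Fin m → R), d = m + 1 ∧ (∀ j, y j ∈ IsLocalRing.maximalIdeal R) ∧
      ∀ Q : Ideal R, Q.IsPrime → g ∈ Q → (∀ j, y j ∈ Q) → Q = IsLocalRing.maximalIdeal R := by
  let R' := R ⧸ Ideal.span {g}
  have hne : Ideal.span {g} ≠ ⊤ := ne_top_of_le_ne_top (IsLocalRing.maximalIdeal.isMaximal R).ne_top
    ((Ideal.span_singleton_le_iff_mem _).mpr hg)
  have : Nontrivial R' := Ideal.Quotient.nontrivial_iff.mpr hne
  have : IsLocalRing R' := .of_surjective' _ Ideal.Quotient.mk_surjective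
  have hle : ringKrullDim R' + 1 ≤ d := by
    rw [← hd]
    have : Nonempty (PrimeSpectrum.zeroLocus (R := R) (Ideal.span {g})) := by
      rwa [Set.nonempty_coe_sort, Set.nonempty_iff_ne_empty, ne_eq,
        PrimeSpectrum.zeroLocus_empty_iff_eq_top]
    rw [ringKrullDim_quotient, Order.krullDim_eq_iSup_length, ringKrullDim,
      Order.krullDim_eq_iSup_length, ← WithBot.coe_one, ← WithBot.coe_add,
      ENat.iSup_add, WithBot.coe_le_coe, iSup_le_iff]
    intro l
    obtain ⟨p, hp, hp'⟩ := Ideal.exists_minimalPrimes_le (J := l.head.1.asIdeal) bot_le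
    let p' : PrimeSpectrum R := ⟨p, hp.1.1⟩
    have hp' : p' < l.head := lt_of_le_of_ne hp' fun h ↦ hmin p hp
      (show g ∈ p'.asIdeal by rw [h]; exact l.head.2 (Ideal.mem_span_singleton_self g))
    refine le_trans ?_ (le_iSup _ ((l.map Subtype.val (fun _ _ ↦ id)).cons p' hp'))
    simp
  obtain ⟨s, hs, hcard⟩ :=
    Ideal.exists_finset_card_eq_height_of_isNoetherianRing (IsLocalRing.maximalIdeal R')
  have hlt : (s.card : ℕ∞) + 1 ≤ d := by
    rw [hcard]
    rw [← IsLocalRing.maximalIdeal_height_eq_ringKrullDim] at hle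
    exact_mod_cast hle
  have hsd : s.card + 1 ≤ d := by exact_mod_cast hlt
  obtain ⟨m, rfl⟩ : ∃ m, d = m + 1 := ⟨d - 1, by omega⟩
  let y' : Fin m → R' := fun j => if h : j.1 < s.card then (s.equivFin.symm ⟨j.1, h⟩).1 else 0
  have hy'max : ∀ j, y' j ∈ IsLocalRing.maximalIdeal R' := by
    intro j
    by_cases h : j.1 < s.card
    · simp only [y', dif_pos h]
      exact hs.1.2 (Ideal.subset_span (s.equivFin.symm ⟨j.1, h⟩).2)
    · simp [y', dif_neg h]
  choose y hy using fun j => Ideal.Quotient.mk_surjective (y' j)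
  refine ⟨m, y, rfl, fun j => ?_, fun Q hQ hgQ hyQ => ?_⟩
  · refine (IsLocalRing.mem_maximalIdeal _).mpr fun hu => ?_
    exact (IsLocalRing.mem_maximalIdeal _).mp (hy'max j) (hy j ▸ hu.map (Ideal.Quotient.mk _))
  · have hker : RingHom.ker (Ideal.Quotient.mk (Ideal.span {g})) ≤ Q := by
      rw [Ideal.mk_ker]
      exact (Ideal.span_singleton_le_iff_mem _).mpr hgQ
    have hQ' := Ideal.map_isPrime_of_surjective Ideal.Quotient.mk_surjective (H := hQ) hker
    have hspan : Ideal.span (s : Set R') ≤ Q.map (Ideal.Quotient.mk _) := by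
      rw [Ideal.span_le]
      intro z hz
      let j := s.equivFin ⟨z, hz⟩
      have hj : j.1 < m := lt_of_lt_of_le j.2 (by omega)
      have : y' ⟨j.1, hj⟩ = z := by simp [y', j]
      rw [← this, ← hy]
      exact Ideal.mem_map_of_mem _ (hyQ _)
    have hQeq : IsLocalRing.maximalIdeal R' = Q.map (Ideal.Quotient.mk _) :=
      le_antisymm (hs.2 ⟨hQ', hspan⟩ (IsLocalRing.le_maximalIdeal hQ'.ne_top))
        (IsLocalRing.le_maximalIdeal hQ'.ne_top)
    have := congrArg (Ideal.comap (Ideal.Quotient.mk (Ideal.span {g}))) hQeq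
    rw [Ideal.comap_map_of_surjective _ Ideal.Quotient.mk_surjective, ← RingHom.ker_eq_comap_bot,
      sup_eq_left.mpr hker] at this
    rw [← this]
    exact IsLocalRing.eq_maximalIdeal (Ideal.comap_isMaximal_of_surjective _ Ideal.Quotient.mk_surjective)

end Dim

end Groth.L15.HorizNZD
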