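import Groth.Agent.L15.HorizNZD.Basic
import Mathlib.RingTheory.LocalRing.ResidueField.Fiber
import Mathlib.RingTheory.Ideal.GoingUp

/-!
The main theorem: `A → B / (g)` is injective.
-/

namespace Groth.L15.HorizNZD

universe u

open IsLocalRing

section Isolated

variable {R S B : Type*} [CommRing R] [CommRing S] [Algebra R S] [Algebra.FiniteType R S]
  [CommRing B] [IsLocalRing B] [Algebra R B] [Algebra S B] [IsScalarTower R S B]

/-- If `B = S_Q` has zero dimensional algebraic fibre over `R`, then `S` is quasi-finite at `Q`. -/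
theorem quasiFiniteAt_of_fibre (Q : Ideal S) [Q.IsPrime] [IsLocalization.AtPrime B Q]
    (hmin : ∀ P : Ideal B, P.IsPrime → (Q.comap (algebraMap R S)).map (algebraMap R B) ≤ P →
      P = maximalIdeal B)
    (halg : ∀ y : S, y ∉ Q → ∃ p : Polynomial R, p.coeff 0 ∉ Q.comap (algebraMap R S) ∧
      Polynomial.eval₂ (algebraMap R S) y p ∈ Q) :
    Algebra.QuasiFiniteAt R Q := by
  let x : PrimeSpectrum S := ⟨Q, inferInstance⟩
  let p := x.comap (algebraMap R S)
  refine Algebra.QuasiFiniteAt.of_isOpen_singleton_fiber x ?_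
  let e := PrimeSpectrum.preimageHomeomorphFiber R S p
  rw [← e.isOpen_image, Set.image_singleton]
  let o := PrimeSpectrum.preimageOrderIsoFiber R S p
  set z := e ⟨x, rfl⟩
  have hz : z = o ⟨x, rfl⟩ := rfl
  have : IsNoetherianRing (p.asIdeal.Fiber S) :=
    Algebra.FiniteType.isNoetherianRing p.asIdeal.ResidueField _
  have : IsJacobsonRing (p.asIdeal.Fiber S) :=
    isJacobsonRing_of_finiteType (A := p.asIdeal.ResidueField)
  refine ((PrimeSpectrum.isOpen_singleton_tfae_of_isNoetherian_of_isJacobsonRing z).out 0 2 rfl rfl).mpr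
    ⟨?_, ?_⟩
  · rw [PrimeSpectrum.isClosed_singleton_iff_isMaximal, ← PrimeSpectrum.isMax_iff, hz,
      o.isMax_apply]
    rintro ⟨y, hy⟩ (hle : x ≤ y)
    show y ≤ x
    intro a ha
    by_contra haQ
    obtain ⟨P, hP0, hPQ⟩ := halg a haQ
    have hy' : y.asIdeal.comap (algebraMap R S) = Q.comap (algebraMap R S) :=
      congrArg PrimeSpectrum.asIdeal hy
    apply hP0
    rw [← hy', Ideal.mem_comap]
    have h := P.X_mul_divX_add
    rw [← h, Polynomial.eval₂_add, Polynomial.eval₂_mul, Polynomial.eval₂_X, Polynomial.eval₂_C]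
      at hPQ
    exact (y.asIdeal.add_mem_iff_right (y.asIdeal.mul_mem_right _ ha)).mp (hle hPQ)
  · intro w w' hw hw'
    rw [Set.mem_singleton_iff] at hw' ⊢
    subst hw'
    have hle : w' ≤ z := (PrimeSpectrum.le_iff_specializes w' z).mpr hw
    obtain ⟨⟨y, hy⟩, rfl⟩ := o.surjective w'
    rw [hz, o.le_iff_le] at hle
    have hy' : y.asIdeal.comap (algebraMap R S) = Q.comap (algebraMap R S) :=
      congrArg PrimeSpectrum.asIdeal hy
    have hyQ : y.asIdeal ≤ Q := hle
    have hdis : Disjoint (Q.primeCompl : Set S) y.asIdeal :=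
      Set.disjoint_left.mpr fun a ha hay => ha (hyQ hay)
    have hp := IsLocalization.isPrime_of_isPrime_disjoint Q.primeCompl B y.asIdeal y.isPrime hdis
    have h1 := hmin _ hp (by
      rw [← hy', IsScalarTower.algebraMap_eq R S B, ← Ideal.map_map]
      exact Ideal.map_mono Ideal.map_comap_le)
    have h2 := congrArg (Ideal.comap (algebraMap S B)) h1
    rw [← Ideal.under_def (A := S),
      IsLocalization.under_map_of_isPrime_disjoint _ B y.isPrime hdis,
      ← Ideal.under_def (A := S), IsLocalization.AtPrime.under_maximalIdeal (S := B) Q] at h2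
    rw [hz]
    exact congrArg o (Subtype.ext (PrimeSpectrum.ext h2))

end Isolated

theorem injective_quotient {A B : Type u} [CommRing A] [CommRing B] [IsDomain A] [IsDomain B]
    [IsLocalRing A] [IsLocalRing B] [Algebra A B] [IsLocalHom (algebraMap A B)]
    [FaithfulSMul A B] [Algebra.EssFiniteType A B] (g : B) (hg : g ∈ maximalIdeal B)
    (hmin : ∀ q ∈ (Ideal.map (algebraMap A B) (maximalIdeal A)).minimalPrimes, g ∉ q)
    (d e : ℕ) (hd : ringKrullDim (B ⧸ Ideal.map (algebraMap A B) (maximalIdeal A)) = d)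
    (he : Algebra.trdeg (ResidueField A) (ResidueField B) = e)
    (hsum : Algebra.trdeg A B = (d + e : ℕ)) :
    Function.Injective (algebraMap A (B ⧸ Ideal.span {g})) := by
  classical
  let mB := Ideal.map (algebraMap A B) (maximalIdeal A)
  have hmle : mB ≤ maximalIdeal B :=
    ((IsLocalRing.local_hom_TFAE (algebraMap A B)).out 0 2 rfl rfl).mp ‹_›
  -- system of parameters of the closed fibre
  let Rb := B ⧸ mB
  have : Nontrivial Rb := Ideal.Quotient.nontrivial_iff.mpr
    (ne_top_of_le_ne_top (maximalIdeal.isMaximal B).ne_top hmle)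
  have : IsLocalRing Rb := .of_surjective' _ Ideal.Quotient.mk_surjective
  have : IsNoetherianRing Rb := by
    have : Algebra.EssFiniteType (A ⧸ maximalIdeal A) Rb := .of_comp A _ _
    have : IsNoetherianRing (A ⧸ maximalIdeal A) :=
      let := Ideal.Quotient.field (maximalIdeal A)
      inferInstance
    exact Algebra.EssFiniteType.isNoetherianRing (A ⧸ maximalIdeal A) Rb
  have hgR : Ideal.Quotient.mk mB g ∈ maximalIdeal Rb := by
    intro hu
    obtain ⟨v, hv⟩ := isUnit_iff_exists_inv.mp hu
    obtain ⟨v, rfl⟩ := Ideal.Quotient.mk_surjective v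
    rw [← map_mul, ← map_one (Ideal.Quotient.mk mB), Ideal.Quotient.mk_eq_mk_iff_sub_mem] at hv
    have h1 : g * v - (g * v - 1) ∈ maximalIdeal B :=
      sub_mem (Ideal.mul_mem_right _ _ hg) (hmle hv)
    rw [sub_sub_cancel] at h1
    exact (maximalIdeal.isMaximal B).ne_top ((Ideal.eq_top_iff_one _).mpr h1)
  obtain ⟨m, ybar, rfl, hybar, hQ⟩ := exists_sop (g := Ideal.Quotient.mk mB g) hgR
    (fun q hq hgq => hmin (q.comap (Ideal.Quotient.mk mB))
      (by
        have h := Ideal.comap_minimalPrimes_eq_of_surjective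
          (f := Ideal.Quotient.mk mB) Ideal.Quotient.mk_surjective (⊥ : Ideal Rb)
        have h2 : Ideal.comap (Ideal.Quotient.mk mB) ⊥ = mB :=
          (RingHom.ker_eq_comap_bot _).symm.trans Ideal.mk_ker
        rw [h2] at h
        exact h ▸ ⟨q, hq, rfl⟩)
      (Ideal.mem_comap.mpr hgq))
    hd
  choose y hy using fun j => Ideal.Quotient.mk_surjective (ybar j)
  -- lifts of a transcendence basis of the residue fields
  obtain ⟨tb, htb⟩ := exists_isTranscendenceBasis (ResidueField A) (ResidueField B)
  have hcard : Cardinal.mk tb = e := htb.cardinalMk_eq_trdeg.trans he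
  have : Finite tb := Cardinal.lt_aleph0_iff_finite.mp (hcard.trans_lt Cardinal.natCast_lt_aleph0)
  have hcard' : Nat.card tb = e := by rw [Nat.card, hcard, Cardinal.toNat_natCast]
  let eq : tb ≃ Fin e := (Finite.equivFin tb).trans (finCongr hcard')
  choose t ht using fun i : Fin e => residue_surjective (eq.symm i).1
  let xx : Fin e ⊕ Fin (m + 1) → B := Sum.elim t (Fin.cons g y)
  let φ : MvPolynomial (Fin e ⊕ Fin (m + 1)) A →ₐ[A] B := MvPolynomial.aeval xx
  algebraize [φ.toRingHom]
  have : IsScalarTower A (MvPolynomial (Fin e ⊕ Fin (m + 1)) A) B :=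
    IsScalarTower.of_algHom φ
  -- a finite type algebra over the polynomial ring with localisation `B`
  obtain ⟨σ, hσ⟩ := (Algebra.essFiniteType_iff A B).mp inferInstance
  let C : Subalgebra (MvPolynomial (Fin e ⊕ Fin (m + 1)) A) B :=
    Algebra.adjoin _ (σ : Set B)
  have : Algebra.FiniteType (MvPolynomial (Fin e ⊕ Fin (m + 1)) A) C :=
    C.fg_iff_finiteType.mp ⟨σ, rfl⟩
  let Q : Ideal C := (maximalIdeal B).comap C.val.toRingHom
  have hloc : IsLocalization.AtPrime B Q := by
    refine ⟨fun ⟨s, hs⟩ => ?_, fun z => ?_, fun {x y} h => ⟨1, by rw [Subtype.ext h]⟩⟩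
    · exact IsLocalRing.notMem_maximalIdeal.mp hs
    · have hsub : ∀ z ∈ Algebra.adjoin A (σ : Set B), z ∈ C := fun z hz =>
        Algebra.adjoin_le (S := C.restrictScalars A) Algebra.subset_adjoin hz
      obtain ⟨s, hs, hsu, hzs⟩ := hσ z
      exact ⟨⟨⟨z * s, hsub _ hzs⟩, ⟨⟨s, hsub _ hs⟩,
        fun h => IsLocalRing.notMem_maximalIdeal.mpr hsu h⟩⟩, rfl⟩
  let R := MvPolynomial (Fin e ⊕ Fin (m + 1)) A
  have hXB : ∀ j, algebraMap R B (MvPolynomial.X j) = xx j := fun j => MvPolynomial.aeval_X _ _
  have hxxmax : ∀ j, xx (Sum.inr j) ∈ maximalIdeal B := by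
    intro j
    refine Fin.cases ?_ ?_ j
    · exact hg
    · intro j hu
      refine hybar j (hy j ▸ ?_)
      exact (show IsUnit (y j) by simpa [xx] using hu).map (Ideal.Quotient.mk mB)
  -- fibre over the prime of the polynomial ring
  have hminB : ∀ P : Ideal B, P.IsPrime → (Q.comap (algebraMap R C)).map (algebraMap R B) ≤ P →
      P = maximalIdeal B := by
    intro P hP hle
    have hn : ∀ r : R, algebraMap R B r ∈ maximalIdeal B → algebraMap R B r ∈ P := fun r hr =>
      hle (Ideal.mem_map_of_mem _ hr)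
    have hmP : mB ≤ P := by
      rw [Ideal.map_le_iff_le_comap]
      intro a ha
      have := hn (algebraMap A R a) (by
        rw [← IsScalarTower.algebraMap_apply]
        exact hmle (Ideal.mem_map_of_mem _ ha))
      rwa [← IsScalarTower.algebraMap_apply] at this
    have hxP : ∀ j, xx (Sum.inr j) ∈ P := fun j => by
      have := hn (MvPolynomial.X (Sum.inr j)) (by rw [hXB]; exact hxxmax j)
      rwa [hXB] at this
    have hker : RingHom.ker (Ideal.Quotient.mk mB) ≤ P := by rwa [Ideal.mk_ker]
    have := hQ (P.map (Ideal.Quotient.mk mB))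
      (Ideal.map_isPrime_of_surjective Ideal.Quotient.mk_surjective hker)
      (Ideal.mem_map_of_mem _ (hxP 0))
      (fun j => by rw [← hy]; exact Ideal.mem_map_of_mem _ (hxP j.succ))
    have h2 := congrArg (Ideal.comap (Ideal.Quotient.mk mB)) this
    rw [Ideal.comap_map_of_surjective _ Ideal.Quotient.mk_surjective, ← RingHom.ker_eq_comap_bot,
      sup_eq_left.mpr hker] at h2
    rw [h2]
    exact IsLocalRing.eq_maximalIdeal
      (Ideal.comap_isMaximal_of_surjective _ Ideal.Quotient.mk_surjective)
  have halg : ∀ z : C, z ∉ Q → ∃ p : Polynomial R, p.coeff 0 ∉ Q.comap (algebraMap R C) ∧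
      Polynomial.eval₂ (algebraMap R C) z p ∈ Q := by
    intro z hz
    let T : Set (ResidueField B) := Set.range ((↑) : tb → ResidueField B)
    have hzalg : IsAlgebraic (Algebra.adjoin (ResidueField A) T) (residue B (z : B)) :=
      htb.isAlgebraic.isAlgebraic _
    have hz0 : residue B (z : B) ≠ 0 := fun h => hz ((residue_eq_zero_iff _).mp h)
    obtain ⟨P, hP0, hPz⟩ := hzalg.exists_nonzero_coeff_and_aeval_eq_zero
      (mem_nonZeroDivisors_of_ne_zero hz0)
    let ρ : R →+* ResidueField B := (residue B).comp (algebraMap R B)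
    have hρ : ∀ w ∈ Algebra.adjoin (ResidueField A) T, ∃ r : R, ρ r = w := by
      intro w hw
      induction hw using Algebra.adjoin_induction with
      | mem w hw =>
        obtain ⟨w, rfl⟩ := hw
        refine ⟨MvPolynomial.X (Sum.inl (eq w)), ?_⟩
        simp only [ρ, RingHom.comp_apply, hXB, xx, Sum.elim_inl, ht, Equiv.symm_apply_apply]
      | algebraMap a =>
        obtain ⟨a, rfl⟩ := residue_surjective a
        refine ⟨algebraMap A R a, ?_⟩
        simp only [ρ, RingHom.comp_apply, ← IsScalarTower.algebraMap_apply]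
        rfl
      | add a b _ _ ha hb =>
        obtain ⟨a, rfl⟩ := ha
        obtain ⟨b, rfl⟩ := hb
        exact ⟨a + b, map_add _ _ _⟩
      | mul a b _ _ ha hb =>
        obtain ⟨a, rfl⟩ := ha
        obtain ⟨b, rfl⟩ := hb
        exact ⟨a * b, map_mul _ _ _⟩
    have hl : P.map (Algebra.adjoin (ResidueField A) T).val.toRingHom ∈ Polynomial.lifts ρ := by
      rw [Polynomial.lifts_iff_coeff_lifts]
      intro k
      rw [Polynomial.coeff_map]
      exact hρ _ (P.coeff k).2
    obtain ⟨p, hp⟩ := (Polynomial.mem_lifts _).mp hl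
    refine ⟨p, fun h => hP0 (Subtype.ext ?_), ?_⟩
    · have h1 := congrArg (fun q => Polynomial.coeff q 0) hp
      simp only [Polynomial.coeff_map] at h1
      exact h1.symm.trans ((residue_eq_zero_iff _).mpr h)
    · show ((Polynomial.eval₂ (algebraMap R C) z p : C) : B) ∈ maximalIdeal B
      rw [← residue_eq_zero_iff]
      have h1 : residue B ((Polynomial.eval₂ (algebraMap R C) z p : C) : B) =
          Polynomial.eval₂ ρ (residue B (z : B)) p :=
        Polynomial.hom_eval₂ p (algebraMap R C) ((residue B).comp C.val.toRingHom) z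
      rw [h1, ← Polynomial.eval_map, hp, Polynomial.eval_map]
      exact hPz
  have := quasiFiniteAt_of_fibre (R := R) (S := C) (B := B) Q hminB halg
  have hzmt := Algebra.ZariskisMainProperty.of_finiteType (R := R) Q
  rw [Algebra.zariskisMainProperty_iff] at hzmt
  obtain ⟨r, hrQ, hrint, hr⟩ := hzmt
  have hru : IsUnit (r : B) := IsLocalRing.notMem_maximalIdeal.mp hrQ
  -- every element is a fraction of integral elements
  have hfrac : ∀ b : B, ∃ s c : B, IsUnit s ∧ IsIntegral R s ∧ IsIntegral R c ∧ b * s = c := by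
    intro b
    obtain ⟨⟨z, w⟩, hw⟩ := IsLocalization.surj Q.primeCompl b
    obtain ⟨k, hk⟩ := hr z
    obtain ⟨l, hl⟩ := hr w.1
    refine ⟨(r : B) ^ k * ((r : B) ^ l * (w.1 : B)), (r : B) ^ l * ((r : B) ^ k * (z : B)),
      (hru.pow k).mul ((hru.pow l).mul (IsLocalRing.notMem_maximalIdeal.mp w.2)),
      ((hrint.map C.val).pow k).mul (by simpa using hl.map C.val),
      ((hrint.map C.val).pow l).mul (by simpa using hk.map C.val), ?_⟩
    rw [← show b * (w.1 : B) = (z : B) from hw]
    ring
  -- the parameters are algebraically independent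
  have halgB : Algebra.IsAlgebraic (Algebra.adjoin A (Set.range xx)) B := by
    have hint : ∀ b : B, IsIntegral R b → IsAlgebraic (Algebra.adjoin A (Set.range xx)) b := by
      intro b hb
      obtain ⟨q, hqm, hq⟩ := hb
      let ψ : R →+* Algebra.adjoin A (Set.range xx) :=
        φ.toRingHom.codRestrict (Algebra.adjoin A (Set.range xx)).toSubring fun r => by
          show φ r ∈ Algebra.adjoin A (Set.range xx)
          rw [Algebra.adjoin_range_eq_range_aeval]
          exact ⟨r, rfl⟩
      have hbI : IsIntegral (Algebra.adjoin A (Set.range xx)) b := by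
        refine ⟨q.map ψ, hqm.map ψ, ?_⟩
        rw [Polynomial.eval₂_map]
        exact hq
      exact hbI.isAlgebraic
    refine ⟨fun b => ?_⟩
    obtain ⟨s, c, hsu, hs, hc, hbsc⟩ := hfrac b
    exact IsAlgebraic.of_mul (mem_nonZeroDivisors_of_ne_zero hsu.ne_zero) (hint s hs)
      (show IsAlgebraic _ (s * b) by rw [mul_comm, hbsc]; exact hint c hc)
  have hAI : AlgebraicIndependent A xx := by
    have hb := Algebra.IsAlgebraic.isTranscendenceBasis_of_lift_le_trdeg_of_finite
      (R := A) (A := B) (x := xx) (by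
        rw [hsum, Cardinal.mk_fintype, Fintype.card_sum, Fintype.card_fin, Fintype.card_fin]
        simp [add_comm (m + 1) e])
    exact hb.1
  -- the fraction fields
  let K := FractionRing A
  let L := FractionRing B
  let := FractionRing.liftAlgebra A L
  have : IsScalarTower A K L := inferInstance
  have hAI' : AlgebraicIndependent A (algebraMap B L ∘ xx) :=
    hAI.map' (f := IsScalarTower.toAlgHom A B L) (IsFractionRing.injective B L)
  have : Algebra.IsAlgebraic A K := IsLocalization.isAlgebraic K (nonZeroDivisors A)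
  have hKI : AlgebraicIndependent K (algebraMap B L ∘ xx) := hAI'.extendScalars K
  let ψK : MvPolynomial (Fin e ⊕ Fin (m + 1)) K →ₐ[K] L := MvPolynomial.aeval (algebraMap B L ∘ xx)
  algebraize [ψK.toRingHom]
  have : Module.IsTorsionFree (MvPolynomial (Fin e ⊕ Fin (m + 1)) K) L := by
    have : FaithfulSMul (MvPolynomial (Fin e ⊕ Fin (m + 1)) K) L :=
      (faithfulSMul_iff_algebraMap_injective _ _).mpr hKI
    infer_instance
  letI : Algebra R (MvPolynomial (Fin e ⊕ Fin (m + 1)) K) := MvPolynomial.algebraMvPolynomial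
  have : IsScalarTower R (MvPolynomial (Fin e ⊕ Fin (m + 1)) K) L := by
    refine IsScalarTower.of_algebraMap_eq' (MvPolynomial.ringHom_ext (fun a => ?_) fun j => ?_)
    · show algebraMap R L (algebraMap A R a) = ψK (MvPolynomial.map (algebraMap A K) (MvPolynomial.C a))
      rw [MvPolynomial.map_C, MvPolynomial.aeval_C, ← IsScalarTower.algebraMap_apply,
        ← IsScalarTower.algebraMap_apply]
    · show algebraMap R L (MvPolynomial.X j) = ψK (MvPolynomial.map (algebraMap A K) (MvPolynomial.X j))
      rw [MvPolynomial.map_X, MvPolynomial.aeval_X, IsScalarTower.algebraMap_apply R B L, hXB]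
      rfl
  rw [injective_iff_map_eq_zero]
  intro a ha
  by_contra ha0
  rw [IsScalarTower.algebraMap_apply A B, Ideal.Quotient.algebraMap_eq,
    Ideal.Quotient.eq_zero_iff_mem, Ideal.mem_span_singleton'] at ha
  obtain ⟨b, hb⟩ := ha
  obtain ⟨s, c, hsu, hs, hc, hbsc⟩ := hfrac b
  have hgx : algebraMap R L (MvPolynomial.X (Sum.inr 0)) = algebraMap B L g := by
    rw [IsScalarTower.algebraMap_apply R B L, hXB]
    rfl
  have haK : algebraMap A K a ≠ 0 :=
    (map_ne_zero_iff _ (IsFractionRing.injective A K)).mpr ha0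
  let γ : L := algebraMap B L c * (algebraMap A L a)⁻¹
  have hγ : IsIntegral (MvPolynomial (Fin e ⊕ Fin (m + 1)) K) γ := by
    refine ((hc.map (IsScalarTower.toAlgHom R B L)).tower_top).mul ?_
    have : (algebraMap A L a)⁻¹ = algebraMap (MvPolynomial (Fin e ⊕ Fin (m + 1)) K) L
        (MvPolynomial.C (algebraMap A K a)⁻¹) := by
      show _ = ψK _
      rw [MvPolynomial.aeval_C, map_inv₀, ← IsScalarTower.algebraMap_apply]
    rw [this]
    exact isIntegral_algebraMap
  have hsγ : algebraMap B L s =
      algebraMap (MvPolynomial (Fin e ⊕ Fin (m + 1)) K) L (MvPolynomial.X (Sum.inr 0)) * γ := by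
    have h1 : algebraMap B L g * algebraMap B L c = algebraMap A L a * algebraMap B L s := by
      rw [IsScalarTower.algebraMap_apply A B L, ← map_mul, ← map_mul, ← hb, ← hbsc, ← mul_assoc,
        mul_comm g b]
    have haL : algebraMap A L a ≠ 0 := by
      rw [IsScalarTower.algebraMap_apply A K L]
      exact (map_ne_zero _).mpr haK
    rw [show algebraMap (MvPolynomial (Fin e ⊕ Fin (m + 1)) K) L (MvPolynomial.X (Sum.inr 0)) =
      algebraMap B L g from MvPolynomial.aeval_X _ _, ← mul_assoc, h1, mul_comm (algebraMap A L a),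
      mul_inv_cancel_right₀ haL]
  obtain ⟨n, u, hu, hpow⟩ := exists_pow_eq_mul (Sum.inr 0)
    (hs.map (IsScalarTower.toAlgHom R B L)) hγ hsγ
  rw [IsScalarTower.coe_toAlgHom', hgx] at hpow
  obtain ⟨si, hsi⟩ := isUnit_iff_exists_inv.mp (hsu.pow n)
  let S := integralClosure B L
  have hu' : u * algebraMap B L si ∈ S := (hu.tower_top).mul isIntegral_algebraMap
  have hunit : IsUnit (algebraMap B S g) := by
    refine isUnit_iff_exists_inv.mpr ⟨⟨_, hu'⟩, Subtype.ext ?_⟩
    show algebraMap B L g * (u * algebraMap B L si) = 1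
    rw [← mul_assoc, ← hpow, ← map_pow, ← map_mul, hsi, map_one]
  exact hg (hunit.of_map)

end Groth.L15.HorizNZD
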